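import Groth.Agent.LocFFLib.NormLocIso
import Groth.Agent.ClopenFFLib.Normal
import Groth.Agent.PurBirLib.Apps

/-! # Normalization in a finite extension of the function field -/

set_option autoImplicit false
set_option linter.style.haveILetI false
set_option backward.isDefEq.respectTransparency false
set_option backward.isDefEq.respectTransparency.types false
set_option maxHeartbeats 1000000

universe u

open CategoryTheory CategoryTheory.Limits AlgebraicGeometry TopologicalSpace

noncomputable section

namespace GenNormLib

variable {T X : Scheme.{u}} [IsIntegral T] [IsIntegral X] [Subsingleton T] (f : T ⟶ X) [QuasiCompact f]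
  [QuasiSeparated f] (hη : f (genericPoint T) = genericPoint X) (hfin : (f.stalkMap (genericPoint T)).hom.Finite)

include hη hfin in
theorem bir_toNormalization : PurBirLib.Bir f.toNormalization := by
  have hηn := LocFFLib.map_generic_of_dominant f.toNormalization
  refine ⟨hηn, (ConcreteCategory.isIso_iff_bijective _).2 ?_⟩
  have hF : IsField (f.normalization.presheaf.stalk (f.toNormalization (genericPoint T))) := by
    rw [hηn]
    exact Field.toIsField f.normalization.functionField
  letI := hF.toField
  refine ⟨RingHom.injective (f.toNormalization.stalkMap (genericPoint T)).hom, fun z => ?_⟩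
  obtain ⟨O, hO, b₀, rfl⟩ := T.presheaf.exists_germ_eq z
  obtain ⟨V, hV, hηV, -⟩ := exists_isAffineOpen_mem_and_subset (x := genericPoint X) (U := ⊤) trivial
  have hle : f ⁻¹ᵁ V ≤ O := fun x _ => Subsingleton.elim (genericPoint T) x ▸ hO
  haveI : Nonempty V := ⟨⟨_, hηV⟩⟩
  have hξ : genericPoint T ∈ f ⁻¹ᵁ V := by
    show f (genericPoint T) ∈ V
    rw [hη]; exact hηV
  haveI : Nonempty (f ⁻¹ᵁ V : T.Opens) := ⟨⟨_, hξ⟩⟩
  let b : Γ(T, f ⁻¹ᵁ V) := T.presheaf.map (homOfLE hle).op b₀
  let φ : X.functionField ⟶ T.functionField :=
    X.presheaf.stalkSpecializes (specializes_of_eq hη) ≫ f.stalkMap (genericPoint T)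
  have hφfin : φ.hom.Finite := by
    haveI : IsIso (X.presheaf.stalkSpecializes (specializes_of_eq hη)) :=
      (X.presheaf.stalkCongr (Inseparable.of_eq hη.symm)).isIso_hom
    exact RingHom.Finite.comp hfin (RingHom.Finite.of_surjective _ (ConcreteCategory.bijective_of_isIso _).2)
  letI := φ.hom.toAlgebra
  haveI : Module.Finite X.functionField T.functionField := hφfin
  letI : Algebra Γ(X, V) T.functionField := (φ.hom.comp (X.germToFunctionField V).hom).toAlgebra
  haveI : IsScalarTower Γ(X, V) X.functionField T.functionField := IsScalarTower.of_algebraMap_eq fun _ => rfl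
  haveI : IsFractionRing Γ(X, V) X.functionField := functionField_isFractionRing_of_isAffineOpen X V hV
  let z : T.functionField := T.presheaf.germ O (genericPoint T) hO b₀
  have halg : IsAlgebraic Γ(X, V) z := (IsFractionRing.isAlgebraic_iff Γ(X, V) X.functionField T.functionField).2
    (IsIntegral.of_finite X.functionField z).isAlgebraic
  obtain ⟨a, ha0, ha⟩ := halg.exists_integral_multiple
  letI := (f.app V).hom.toAlgebra
  have hc : ∀ r : Γ(X, V), algebraMap Γ(X, V) T.functionField r =
      T.presheaf.germ (f ⁻¹ᵁ V) (genericPoint T) hξ (f.app V r) := fun r => by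
    show f.stalkMap (genericPoint T) (X.presheaf.stalkSpecializes (specializes_of_eq hη)
      (X.presheaf.germ V (genericPoint X) hηV r)) = _
    rw [TopCat.Presheaf.germ_stalkSpecializes_apply, Scheme.Hom.germ_stalkMap_apply]
  haveI : IsScalarTower Γ(X, V) Γ(T, f ⁻¹ᵁ V) T.functionField := IsScalarTower.of_algebraMap_eq hc
  have hint : IsIntegral Γ(X, V) (a • b) := by
    refine (isIntegral_algebraMap_iff (A := Γ(T, f ⁻¹ᵁ V)) (B := T.functionField)
      (T.germToFunctionField_injective (f ⁻¹ᵁ V))).1 ?_
    convert! ha using 1
    rw [Algebra.smul_def, Algebra.smul_def, map_mul, ← IsScalarTower.algebraMap_apply]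
    exact congrArg (_ * ·) (TopCat.Presheaf.germ_res_apply T.presheaf (homOfLE hle) _ hξ b₀)
  let c : Γ(f.normalization, f.fromNormalization ⁻¹ᵁ V) := (f.normalizationObjIso hV).inv ⟨a • b, hint⟩
  have hj : f ⁻¹ᵁ V ≤ f.toNormalization ⁻¹ᵁ (f.fromNormalization ⁻¹ᵁ V) := by
    rw [← Scheme.Hom.comp_preimage, f.toNormalization_fromNormalization]
  have hc' : f.toNormalization.appLE (f.fromNormalization ⁻¹ᵁ V) (f ⁻¹ᵁ V) hj c = a • b := by
    have := congrArg (fun ψ => ψ.hom c) (f.normalizationObjIso_hom_val hV)
    refine this.symm.trans ?_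
    show ((f.normalizationObjIso hV).hom ((f.normalizationObjIso hV).inv ⟨a • b, hint⟩)).1 = _
    rw [← CommRingCat.comp_apply, Iso.inv_hom_id]
    rfl
  have hn : f.toNormalization (genericPoint T) ∈ f.fromNormalization ⁻¹ᵁ V := hj hξ
  let sa : f.normalization.presheaf.stalk (f.toNormalization (genericPoint T)) :=
    f.normalization.presheaf.germ _ _ hn (f.fromNormalization.app V a)
  have hsa : f.toNormalization.stalkMap (genericPoint T) sa = algebraMap Γ(X, V) T.functionField a := by
    rw [hc, Scheme.Hom.germ_stalkMap_apply]
    have h2 := congrArg (fun ψ => T.presheaf.germ _ (genericPoint T) hn (ψ.hom a))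
      (Scheme.Hom.congr_app f.toNormalization_fromNormalization V)
    simp only [Scheme.Hom.comp_app, CommRingCat.hom_comp, RingHom.comp_apply] at h2
    refine h2.trans ?_
    exact TopCat.Presheaf.germ_res_apply T.presheaf _ _ hn _
  have hsc : f.toNormalization.stalkMap (genericPoint T) (f.normalization.presheaf.germ _ _ hn c) =
      algebraMap Γ(X, V) T.functionField a * z := by
    rw [Scheme.Hom.germ_stalkMap_apply]
    have := congrArg (T.presheaf.germ (f ⁻¹ᵁ V) (genericPoint T) hξ) hc'
    rw [Scheme.Hom.appLE, CommRingCat.comp_apply, TopCat.Presheaf.germ_res_apply] at this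
    refine this.trans ?_
    rw [Algebra.smul_def, map_mul, hc]
    exact congrArg (_ * ·) (TopCat.Presheaf.germ_res_apply T.presheaf (homOfLE hle) _ hξ b₀)
  refine ⟨f.normalization.presheaf.germ _ _ hn c * sa⁻¹, ?_⟩
  show (f.toNormalization.stalkMap (genericPoint T)).hom _ = z
  rw [map_mul, map_inv₀]
  show f.toNormalization.stalkMap (genericPoint T) _ * (f.toNormalization.stalkMap (genericPoint T) sa)⁻¹ = z
  erw [hsc, hsa]
  have h0 : algebraMap Γ(X, V) T.functionField a ≠ 0 := by
    intro h
    refine ha0 (X.germToFunctionField_injective V ?_)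
    rw [map_zero]
    exact φ.hom.injective (h.trans (map_zero _).symm)
  field_simp

include hη hfin in
/-- A normal integral model is the normalization. -/
theorem exists_iso_normalization {Y : Scheme.{u}} [IsIntegral Y] (hY : Pi1.IsNormalScheme Y) (g : Y ⟶ X)
    [IsIntegralHom g] (s : T ⟶ Y) (hsg : s ≫ g = f) (hsη : s (genericPoint T) = genericPoint Y)
    (hsurj : Function.Surjective (s.stalkMap (genericPoint T))) :
    ∃ u : f.normalization ≅ Y, u.hom ≫ g = f.fromNormalization := by
  let u : f.normalization ⟶ Y := f.normalizationDesc s g hsg.symm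
  have hu : u ≫ g = f.fromNormalization := f.normalizationDesc_comp s g hsg.symm
  have htu : f.toNormalization ≫ u = s := f.toNormalization_normalizationDesc s g hsg.symm
  haveI : IsIntegralHom u := by
    haveI : IsIntegralHom (u ≫ g) := hu ▸ inferInstance
    exact IsIntegralHom.of_comp u g
  obtain ⟨hn, hniso⟩ := bir_toNormalization f hη hfin
  have hug : u (genericPoint f.normalization) = genericPoint Y := by
    rw [← hn, ← Scheme.Hom.comp_apply, htu, hsη]
  have hF : IsField (Y.presheaf.stalk (u (f.toNormalization (genericPoint T)))) := by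
    rw [hn, hug]; exact Field.toIsField Y.functionField
  letI := hF.toField
  have h1 : IsIso (u.stalkMap (f.toNormalization (genericPoint T))) := by
    refine (ConcreteCategory.isIso_iff_bijective _).2 ⟨?_, fun b => ?_⟩
    · haveI : Nontrivial (f.normalization.presheaf.stalk (f.toNormalization (genericPoint T))) := inferInstance
      exact RingHom.injective (u.stalkMap _).hom
    have hsurj' : Function.Surjective ((f.toNormalization ≫ u).stalkMap (genericPoint T)) := by
      rw [htu]; exact hsurj
    obtain ⟨a, ha⟩ := hsurj' (f.toNormalization.stalkMap (genericPoint T) b)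
    rw [Scheme.Hom.stalkMap_comp] at ha
    exact ⟨a, (ConcreteCategory.bijective_of_isIso (f.toNormalization.stalkMap (genericPoint T))).1 ha⟩
  rw [hn] at h1
  haveI : IsIso u := PurBirLib.isIso_of_isIntegralHom u ⟨hug, h1⟩ (fun y => (hY y).2)
  exact ⟨asIso u, hu⟩

include hη hfin in
/-- The generic fibre of a finite étale normalization. -/
theorem exists_iso_generic_fibre (hX : Pi1.IsNormalScheme X) [IsFinite f.fromNormalization] [Etale f.fromNormalization]
    (g : T ⟶ Spec X.functionField) [IsFinite g] (hg : g ≫ X.fromSpecStalk (genericPoint X) = f) :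
    ∃ q : T ≅ pullback f.fromNormalization (X.fromSpecStalk (genericPoint X)),
      q.hom ≫ pullback.snd f.fromNormalization (X.fromSpecStalk (genericPoint X)) = g := by
  let ι := X.fromSpecStalk (genericPoint X)
  let q : T ⟶ pullback f.fromNormalization ι :=
    pullback.lift f.toNormalization g (f.toNormalization_fromNormalization.trans hg.symm)
  have hq1 : q ≫ pullback.fst _ _ = f.toNormalization := pullback.lift_fst _ _ _
  have hq2 : q ≫ pullback.snd _ _ = g := pullback.lift_snd _ _ _
  let w := pullback.snd f.fromNormalization ι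
  haveI : IsFinite w := MorphismProperty.pullback_snd _ _ ‹IsFinite f.fromNormalization›
  haveI : Etale w := MorphismProperty.pullback_snd _ _ ‹Etale f.fromNormalization›
  haveI : IsFinite q := by
    haveI : IsFinite (q ≫ w) := by rw [hq2]; infer_instance
    exact IsFinite.of_comp q w
  haveI : ConnectedSpace (pullback f.fromNormalization ι : Scheme.{u}) := by
    rw [connectedSpace_iff_clopen]
    refine ⟨⟨q (genericPoint T)⟩, fun C hC => ?_⟩
    haveI : IrreducibleSpace ↥(MorphismProperty.Over.mk (P := FEt.prop.{u}) ⊤ f.fromNormalization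
      ⟨inferInstance, inferInstance⟩).left := inferInstanceAs (IrreducibleSpace ↥f.normalization)
    obtain ⟨D, hD, -⟩ := ClopenFFLib.clopenBij_generic hX
      (MorphismProperty.Over.mk ⊤ f.fromNormalization ⟨inferInstance, inferInstance⟩) ⟨C, hC⟩
    rcases isClopen_iff.1 D.isClopen with h | h
    · exact Or.inl (hD.symm.trans (by rw [h, Set.preimage_empty]))
    · exact Or.inr (hD.symm.trans (by rw [h, Set.preimage_univ]))
  have hK : Pi1.IsNormalScheme (Spec X.functionField) := fun x => by
    haveI : Subsingleton (Spec X.functionField) := inferInstanceAs (Subsingleton (PrimeSpectrum X.functionField))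
    rw [Subsingleton.elim x (genericPoint _)]
    exact ⟨inferInstanceAs (IsDomain (Spec X.functionField).functionField),
      inferInstanceAs (IsIntegrallyClosed (Spec X.functionField).functionField)⟩
  haveI : IsIntegral (pullback f.fromNormalization ι) := ClopenFFLib.isIntegral_of_connected w hK
  have hP : Pi1.IsNormalScheme (pullback f.fromNormalization ι) := ClopenFFLib.normal_of_etale w hK
  have hqη : q (genericPoint T) = genericPoint (pullback f.fromNormalization ι : Scheme.{u}) := by
    haveI : Subsingleton (pullback f.fromNormalization ι : Scheme.{u}) := by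
      haveI : Subsingleton (Spec X.functionField) := inferInstanceAs (Subsingleton (PrimeSpectrum X.functionField))
      haveI : LocallyQuasiFinite w := inferInstance
      refine ⟨fun x y => ?_⟩
      have hd := (w.isDiscrete_preimage_singleton (w (genericPoint (pullback f.fromNormalization ι : Scheme.{u})))).to_subtype
      have key : ∀ z : (pullback f.fromNormalization ι : Scheme.{u}), z = genericPoint _ := fun z => by
        have hs : (⟨genericPoint _, rfl⟩ : w ⁻¹' {w (genericPoint (pullback f.fromNormalization ι : Scheme.{u}))}) ⤳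
            ⟨z, Subsingleton.elim _ _⟩ := (subtype_specializes_iff _ _).2 (genericPoint_specializes z)
        exact (congrArg Subtype.val hs.eq).symm
      rw [key x, key y]
    exact Subsingleton.elim _ _
  obtain ⟨hn, hniso⟩ := bir_toNormalization f hη hfin
  haveI : IsPreimmersion (pullback.fst f.fromNormalization ι) :=
    MorphismProperty.pullback_fst (P := @IsPreimmersion) _ _ (show IsPreimmersion ι from inferInstance)
  have hF : IsField ((pullback f.fromNormalization ι).presheaf.stalk (q (genericPoint T))) := by
    rw [hqη]; exact Field.toIsField (pullback f.fromNormalization ι).functionField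
  letI := hF.toField
  have hb : Function.Bijective (q.stalkMap (genericPoint T)) := by
    refine ⟨RingHom.injective (q.stalkMap (genericPoint T)).hom, fun b => ?_⟩
    have hsurj' : Function.Surjective ((q ≫ pullback.fst f.fromNormalization ι).stalkMap (genericPoint T)) := by
      rw [hq1]; exact (ConcreteCategory.bijective_of_isIso _).2
    obtain ⟨a, ha⟩ := hsurj' b
    rw [Scheme.Hom.stalkMap_comp] at ha
    exact ⟨_, ha⟩
  haveI : IsIso q := PurBirLib.isIso_of_isIntegralHom q ⟨hqη, (ConcreteCategory.isIso_iff_bijective _).2 hb⟩
    (fun y => (hP y).2)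
  exact ⟨asIso q, hq2⟩

end GenNormLib

end
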