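import Groth.Agent.SHSplitLib.Alg
import Groth.Agent.HenselLib.Criteria
import Mathlib.RingTheory.Artinian.Module
import Mathlib.FieldTheory.IsSepClosed

/-! # Enough points over a geometric point split an algebra over the strict henselization -/

set_option autoImplicit false
set_option linter.style.haveILetI false
set_option backward.isDefEq.respectTransparency false
set_option backward.isDefEq.respectTransparency.types false
set_option maxHeartbeats 1000000
set_option synthInstance.maxHeartbeats 400000

universe u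

open TensorProduct IsLocalRing

noncomputable section

namespace GenNormLib

/-- Orthogonal idempotents separating finitely many maximal ideals of a finite algebra over a henselian ring. -/
theorem exists_orthogonal_idempotents (R : Type u) [CommRing R] [HenselianLocalRing R] (T : Type u) [CommRing T]
    [Algebra R T] [Module.Finite R T] {n : ℕ} (N : Fin n → Ideal T) (hN : ∀ i, (N i).IsMaximal)
    (hinj : Function.Injective N) :
    ∃ f : Fin n → T, (∀ i, IsIdempotentElem (f i)) ∧ (∀ i, f i ∉ N i) ∧ ∀ i j, i ≠ j → f i * f j = 0 := by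
  classical
  let IT := (maximalIdeal R).map (algebraMap R T)
  letI : Field (R ⧸ maximalIdeal R) := Ideal.Quotient.field _
  have hle : ∀ i, IT ≤ N i := fun i => by
    refine Ideal.map_le_iff_le_comap.2 ?_
    haveI := hN i
    exact (IsLocalRing.eq_maximalIdeal (Ideal.isMaximal_comap_of_isIntegral_of_isMaximal (R := R) (N i))).ge
  haveI : Module.Finite R (T ⧸ IT) := Module.Finite.of_surjective (Ideal.Quotient.mkₐ R IT).toLinearMap
    Ideal.Quotient.mk_surjective
  haveI : Module.Finite (R ⧸ maximalIdeal R) (T ⧸ IT) := Module.Finite.of_restrictScalars_finite R _ _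
  haveI : IsArtinianRing (T ⧸ IT) := IsArtinianRing.of_finite (R ⧸ maximalIdeal R) (T ⧸ IT)
  let S := (T ⧸ IT) ⧸ nilradical (T ⧸ IT)
  haveI : IsReduced S := (Ideal.isRadical_iff_quotient_reduced _).mp
    (show (nilradical (T ⧸ IT)).IsRadical from Ideal.radical_isRadical _)
  let π : T →+* S := (Ideal.Quotient.mk _).comp (Ideal.Quotient.mk IT)
  have hπ : Function.Surjective π := Ideal.Quotient.mk_surjective.comp Ideal.Quotient.mk_surjective
  have hker : ∀ i, RingHom.ker π ≤ N i := fun i x hx => by
    haveI := hN i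
    obtain ⟨m, hm⟩ := mem_nilradical.1 (Ideal.Quotient.eq_zero_iff_mem.1 hx)
    rw [← map_pow, Ideal.Quotient.eq_zero_iff_mem] at hm
    exact (hN i).isPrime.mem_of_pow_mem m (hle i hm)
  let M : Fin n → MaximalSpectrum S := fun i => ⟨(N i).map π, by
    haveI := hN i
    exact (Ideal.map_eq_top_or_isMaximal_of_surjective π hπ (hN i)).resolve_left fun h => (hN i).ne_top (by
      have := congrArg (Ideal.comap π) h
      rwa [Ideal.comap_map_of_surjective π hπ, Ideal.comap_top,
        sup_eq_left.2 (by simpa [← RingHom.ker_eq_comap_bot] using hker i)] at this)⟩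
  have hMinj : Function.Injective M := fun i j h => hinj (by
    have := congrArg (fun a : MaximalSpectrum S => a.asIdeal.comap π) h
    simp only [M, Ideal.comap_map_of_surjective π hπ, ← RingHom.ker_eq_comap_bot, sup_eq_left.2 (hker _)] at this
    exact this)
  have key : ∀ i, ∃ e : T, IsIdempotentElem e ∧ e ∉ N i ∧ ∀ j, j ≠ i → e ∈ N j := fun i => by
    let s : S := (IsArtinianRing.equivPi S).symm (Pi.single (M i) 1)
    have hs : IsIdempotentElem s := (by
      funext J
      by_cases h : J = M i
      · subst h; simp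
      · simp [h] : IsIdempotentElem (Pi.single (M i) 1 : ∀ I : MaximalSpectrum S, S ⧸ I.asIdeal)).map _
    have hmem : ∀ j, s ∈ (M j).asIdeal ↔ j ≠ i := fun j => by
      have h1 : Ideal.Quotient.mk (M j).asIdeal s = (Pi.single (M i) 1 : ∀ I : MaximalSpectrum S, S ⧸ I.asIdeal) (M j) :=
        congrFun ((IsArtinianRing.equivPi S).apply_symm_apply _) (M j)
      rw [← Ideal.Quotient.eq_zero_iff_mem, h1]
      refine ⟨fun h hji => ?_, fun h => Pi.single_eq_of_ne (fun e => h (hMinj e)) _⟩
      subst hji
      rw [Pi.single_eq_same] at h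
      haveI : Nontrivial (S ⧸ (M j).asIdeal) := Ideal.Quotient.nontrivial_iff.mpr (M j).isMaximal.ne_top
      exact one_ne_zero h
    obtain ⟨b₁, hb₁, hb₁s⟩ := exists_isIdempotentElem_eq_of_ker_isNilpotent (Ideal.Quotient.mk (nilradical (T ⧸ IT)))
      (fun x hx => mem_nilradical.1 (Ideal.Quotient.eq_zero_iff_mem.1 hx)) s
      (RingHom.mem_range.2 (Ideal.Quotient.mk_surjective s)) hs
    obtain ⟨b, rfl⟩ := Ideal.Quotient.mk_surjective b₁
    obtain ⟨e, he, heb⟩ := HenselLib.exists_idempotent_lift (I := maximalIdeal R) b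
      (Ideal.Quotient.eq.1 ((map_mul _ _ _).trans hb₁))
    have hes : π e = s := (congrArg (Ideal.Quotient.mk (nilradical (T ⧸ IT))) (Ideal.Quotient.eq.2 heb)).trans hb₁s
    have hiff : ∀ j, e ∈ N j ↔ j ≠ i := fun j => by
      rw [← hmem j, ← hes]
      refine ⟨Ideal.mem_map_of_mem π, fun h => ?_⟩
      have := (Ideal.comap_map_of_surjective π hπ (N j)).le (Ideal.mem_comap.2 h)
      rwa [← RingHom.ker_eq_comap_bot, sup_eq_left.2 (hker j)] at this
    exact ⟨e, he, fun h => (hiff i).1 h rfl, fun j hj => (hiff j).2 hj⟩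
  choose e he hei hej using key
  refine ⟨fun i => e i * ∏ j ∈ Finset.univ.erase i, (1 - e j), fun i => (he i).mul ?_, fun i h => ?_, fun i j hij => ?_⟩
  · show _ * _ = _
    rw [← Finset.prod_mul_distrib]
    exact Finset.prod_congr rfl fun j _ => (he j).one_sub.eq
  · haveI := (hN i).isPrime
    rcases Ideal.IsPrime.mem_or_mem inferInstance h with h | h
    · exact hei i h
    · obtain ⟨j, hj, hj'⟩ := Ideal.IsPrime.prod_mem_iff.1 h
      exact (hN i).ne_top ((Ideal.eq_top_iff_one _).2 (by
        have := (N i).add_mem hj' (hej j i (Finset.ne_of_mem_erase hj).symm)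
        rwa [sub_add_cancel] at this))
  · have h1 : (1 - e i) * e i = 0 := by rw [sub_mul, one_mul, (he i).eq, sub_self]
    show e i * _ * (e j * _) = 0
    rw [← Finset.mul_prod_erase (Finset.univ.erase j) (fun k => 1 - e k) (Finset.mem_erase.2 ⟨hij, Finset.mem_univ i⟩)]
    linear_combination (∏ k ∈ Finset.univ.erase i, (1 - e k)) * (e j * ∏ k ∈ (Finset.univ.erase j).erase i, (1 - e k)) * h1

/-- Algebras of dimension `n` with `n` orthogonal idempotents are split. -/
theorem exists_split_of_idempotents {F W : Type u} [Field F] [CommRing W] [Algebra F W] [Module.Finite F W] {n : ℕ}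
    (hn : Module.finrank F W = n) (f : Fin n → W) (hf : ∀ i, IsIdempotentElem (f i)) (hne : ∀ i, f i ≠ 0)
    (horth : ∀ i j, i ≠ j → f i * f j = 0) :
    Nonempty (W ≃ₐ[F] (ULift.{u} (Fin n) → F)) := by
  classical
  have hmul : ∀ (c : Fin n → F) i, f i * (∑ j, c j • f j) = c i • f i := fun c i => by
    rw [Finset.mul_sum, Finset.sum_eq_single i (fun j _ hj => by rw [mul_smul_comm, horth i j hj.symm, smul_zero])
      (fun h => absurd (Finset.mem_univ i) h), mul_smul_comm, (hf i).eq]
  have hli : LinearIndependent F f := Fintype.linearIndependent_iff.2 fun c hc i => by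
    have := hmul c i
    rw [hc, mul_zero, eq_comm, smul_eq_zero] at this
    exact this.resolve_right (hne i)
  have hspan : ∀ w, ∃ c : Fin n → F, ∑ j, c j • f j = w := fun w => by
    have h := hli.span_eq_top_of_card_eq_finrank' (by rw [Fintype.card_fin, hn])
    exact Submodule.mem_span_range_iff_exists_fun F |>.1 (h ▸ Submodule.mem_top)
  have hone : ∑ j, f j = 1 := by
    obtain ⟨c, hc⟩ := hspan 1
    have hc1 : ∀ i, c i • f i = f i := fun i => by rw [← hmul c i, hc, mul_one]
    rw [← hc]
    exact Finset.sum_congr rfl fun i _ => (hc1 i).symm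
  let g : (ULift.{u} (Fin n) → F) →ₗ[F] W :=
    { toFun := fun c => ∑ j, c ⟨j⟩ • f j
      map_add' := fun c d => by simp [add_smul, Finset.sum_add_distrib]
      map_smul' := fun r c => by simp [Finset.smul_sum, mul_smul] }
  let G : (ULift.{u} (Fin n) → F) →ₐ[F] W := AlgHom.ofLinearMap g (by simpa [g] using hone) fun c d => by
    show ∑ j, (c ⟨j⟩ * d ⟨j⟩) • f j = (∑ j, c ⟨j⟩ • f j) * ∑ j, d ⟨j⟩ • f j
    rw [Finset.sum_mul]
    refine Finset.sum_congr rfl fun i _ => ?_
    rw [smul_mul_assoc, hmul, mul_smul]
  refine ⟨(AlgEquiv.ofBijective G ⟨(injective_iff_map_eq_zero G).2 fun c hc => funext fun i =>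
    Fintype.linearIndependent_iff.1 hli (fun j => c ⟨j⟩) hc i.down, fun w => ?_⟩).symm⟩
  obtain ⟨c, hc⟩ := hspan w
  exact ⟨fun j => c j.down, hc⟩

/-- Idempotents in an integral model give a split generic algebra. -/
theorem exists_homs_of_idempotents {A₀ R C : Type u} [CommRing A₀] [CommRing R] [CommRing C] [Algebra A₀ R]
    [Algebra A₀ C] [Module.Flat A₀ R] (A K K' L : Type u) [CommRing A] [IsDomain A₀] [Field K] [Field K'] [Field L]
    [Algebra A₀ K] [IsFractionRing A₀ K] [Algebra A K] [IsFractionRing A K] [Algebra R K'] [IsFractionRing R K']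
    [Algebra A₀ K'] [IsScalarTower A₀ R K'] [Algebra K K'] [IsScalarTower A₀ K K'] [Algebra A K'] [IsScalarTower A K K']
    [Algebra K L] [FiniteDimensional K L] [Algebra A₀ L] [IsScalarTower A₀ K L] [Algebra A L] [IsScalarTower A K L]
    (ιC : C →ₐ[A₀] L) (hιC : Function.Injective ιC) {n : ℕ} (f : Fin n → R ⊗[A₀] C)
    (hf : ∀ i, IsIdempotentElem (f i)) (hne : ∀ i, f i ≠ 0) (horth : ∀ i j, i ≠ j → f i * f j = 0)
    (hn : n = Module.finrank K L) :
    ∃ σ : ULift.{u} (Fin n) → L →ₐ[A] K', Function.Bijective (SHSplit.evalMap (E := K') σ) := by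
  haveI : Module.Flat A₀ L := by
    haveI : Module.Flat A₀ K := IsLocalization.flat K (nonZeroDivisors A₀)
    exact Module.Flat.trans A₀ K L
  haveI : TensorProduct.CompatibleSMul A₀ K K' L :=
    IsLocalization.tensorProduct_compatibleSMul (nonZeroDivisors A₀) K K' L
  let i₁ : R ⊗[A₀] C →ₐ[A₀] R ⊗[A₀] L := Algebra.TensorProduct.map (AlgHom.id A₀ R) ιC
  let i₂ : R ⊗[A₀] L →ₐ[A₀] K' ⊗[A₀] L :=
    Algebra.TensorProduct.map (IsScalarTower.toAlgHom A₀ R K') (AlgHom.id A₀ L)
  let i₃ : K' ⊗[A₀] L ≃ₐ[A₀] K' ⊗[K] L := Algebra.TensorProduct.equivOfCompatibleSMul K A₀ A₀ K' L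
  let j : R ⊗[A₀] C →ₐ[A₀] K' ⊗[K] L := i₃.toAlgHom.comp (i₂.comp i₁)
  have hj : Function.Injective j := i₃.injective.comp
    ((Module.Flat.rTensor_preserves_injective_linearMap (M := L) (IsScalarTower.toAlgHom A₀ R K').toLinearMap
      (IsFractionRing.injective R K')).comp
    (Module.Flat.lTensor_preserves_injective_linearMap (M := R) ιC.toLinearMap hιC))
  obtain ⟨w⟩ := exists_split_of_idempotents (F := K') (W := K' ⊗[K] L) (Module.finrank_baseChange.trans hn.symm)
    (fun i => j (f i)) (fun i => (hf i).map j) (fun i h => hne i (hj (h.trans (map_zero j).symm)))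
    (fun a b hab => by rw [← map_mul, horth a b hab, map_zero])
  let σ : ULift.{u} (Fin n) → L →ₐ[K] K' := fun i =>
    ((Pi.evalAlgHom K' (fun _ : ULift.{u} (Fin n) => K') i).comp w.toAlgHom).restrictScalars K
      |>.comp Algebra.TensorProduct.includeRight
  have hσ : SHSplit.evalMap (E := K') σ = w.toAlgHom := Algebra.TensorProduct.ext (Subsingleton.elim _ _)
    (AlgHom.ext fun l => funext fun i => by simp [σ, SHSplit.evalMap_tmul])
  haveI : TensorProduct.CompatibleSMul A K K' L :=
    IsLocalization.tensorProduct_compatibleSMul (nonZeroDivisors A) K K' L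
  refine ⟨fun i => (σ i).restrictScalars A, ?_⟩
  let d := TensorProduct.equivOfCompatibleSMul K A A K' L
  convert (hσ ▸ w.bijective : Function.Bijective (SHSplit.evalMap (E := K') σ)).comp d.bijective using 1
  funext t
  induction t using TensorProduct.induction_on with
  | zero => simp
  | tmul l q =>
    funext i
    simp only [Function.comp_apply, SHSplit.evalMap_tmul]
    show _ = SHSplit.evalMap (E := K') σ (l ⊗ₜ[K] q) i
    simp [SHSplit.evalMap_tmul]
  | add a b ha hb => simp only [Function.comp_apply, map_add] at ha hb ⊢; rw [ha, hb]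

theorem exists_sepPoint (k k' Ω : Type u) [Field k] [Field k'] [Algebra k k'] [Algebra.IsAlgebraic k k'] [Field Ω]
    [IsAlgClosed Ω] [Algebra k Ω] : Nonempty (k' →ₐ[k] Ω) := ⟨IsAlgClosed.lift⟩

/-- A normal algebraic extension of a separably closed field has one point. -/
theorem ringHom_eq_of_isSepClosed {k F Ω : Type u} [Field k] [IsSepClosed k] [Field F] [Algebra k F] [Module.Finite k F]
    [Field Ω] (a b : F →+* Ω) (h : ∀ x, a (algebraMap k F x) = b (algebraMap k F x)) : a = b := by
  letI : Algebra k Ω := (a.comp (algebraMap k F)).toAlgebra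
  let a' : F →ₐ[k] Ω := { toRingHom := a, commutes' := fun _ => rfl }
  let b' : F →ₐ[k] Ω := { toRingHom := b, commutes' := fun x => (h x).symm }
  exact congrArg AlgHom.toRingHom (Subsingleton.elim a' b')

/-- Enough points over a geometric point give finite étale integral closures. -/
theorem finite_etale_of_points {A₀ : Type u} [CommRing A₀] [IsDomain A₀] [IsIntegrallyClosed A₀] (p : Ideal A₀)
    [p.IsPrime] (K : Type u) [Field K] [Algebra A₀ K] [IsFractionRing A₀ K] [Algebra (Localization.AtPrime p) K]
    [IsScalarTower A₀ (Localization.AtPrime p) K] (L : Type u) [Field L] [Algebra K L]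
    [FiniteDimensional K L] [Algebra A₀ L] [IsScalarTower A₀ K L] [Algebra (Localization.AtPrime p) L]
    [IsScalarTower (Localization.AtPrime p) K L] {Ω : Type u} [Field Ω] [IsAlgClosed Ω] (φ : A₀ →+* Ω)
    (hφ : RingHom.ker φ = p) (χ : Fin (Module.finrank K L) → (integralClosure A₀ L →+* Ω))
    (hχ : ∀ i, (χ i).comp (algebraMap A₀ (integralClosure A₀ L)) = φ) (hχi : Function.Injective χ) :
    Module.Finite (Localization.AtPrime p) (integralClosure (Localization.AtPrime p) L) ∧
      Algebra.Etale (Localization.AtPrime p) (integralClosure (Localization.AtPrime p) L) := by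
  classical
  let A := Localization.AtPrime p
  haveI : IsDomain A := IsLocalization.isDomain_localization p.primeCompl_le_nonZeroDivisors
  haveI : IsIntegrallyClosed A :=
    isIntegrallyClosed_of_isLocalization A p.primeCompl p.primeCompl_le_nonZeroDivisors
  haveI : IsFractionRing A K :=
    IsFractionRing.isFractionRing_of_isDomain_of_isLocalization p.primeCompl A K
  let R := HenselLib.SH A
  have hR : Hensel.IsStrictHenselization A R := inferInstance
  haveI := hR.henselian
  haveI := hR.isSepClosure
  obtain ⟨hRd, -⟩ := (Groth.Agent.S2748.result A R).2 ⟨inferInstance, inferInstance⟩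
  haveI := hRd
  haveI : Module.FaithfullyFlat A R := Groth.Agent.S0539.result A R
  have hinjAR : Function.Injective (algebraMap A R) := FaithfulSMul.algebraMap_injective A R
  letI : Algebra A₀ R := ((algebraMap A R).comp (algebraMap A₀ A)).toAlgebra
  haveI : IsScalarTower A₀ A R := IsScalarTower.of_algebraMap_eq' rfl
  obtain ⟨K', _, _, _⟩ : ∃ (K' : Type u) (_ : Field K') (_ : Algebra R K'), IsFractionRing R K' :=
    ⟨FractionRing R, inferInstance, inferInstance, inferInstance⟩
  letI : Algebra A K' := ((algebraMap R K').comp (algebraMap A R)).toAlgebra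
  haveI : IsScalarTower A R K' := IsScalarTower.of_algebraMap_eq' rfl
  letI : Algebra A₀ K' := ((algebraMap A K').comp (algebraMap A₀ A)).toAlgebra
  haveI : IsScalarTower A₀ A K' := IsScalarTower.of_algebraMap_eq' rfl
  haveI : IsScalarTower A₀ R K' := IsScalarTower.of_algebraMap_eq' rfl
  letI : Algebra K K' := (IsFractionRing.lift (K := K) (g := (algebraMap R K').comp (algebraMap A R))
    ((IsFractionRing.injective R K').comp hinjAR)).toAlgebra
  haveI : IsScalarTower A K K' := IsScalarTower.of_algebraMap_eq fun a => by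
    show _ = IsFractionRing.lift _ _
    rw [IsFractionRing.lift_algebraMap]
    rfl
  haveI : IsScalarTower A₀ K K' := IsScalarTower.of_algebraMap_eq fun a => by
    rw [IsScalarTower.algebraMap_apply A₀ A K, ← IsScalarTower.algebraMap_apply A K K',
      ← IsScalarTower.algebraMap_apply A₀ A K']
  -- the geometric point of the strict henselization
  have hu : ∀ y : p.primeCompl, IsUnit (φ y) := fun ⟨y, hy⟩ =>
    isUnit_iff_ne_zero.2 fun h => hy (hφ.le h)
  let φA : A →+* Ω := IsLocalization.lift (S := A) hu
  haveI : IsLocalHom φA := ⟨fun a ha => by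
    obtain ⟨x, s, rfl⟩ := IsLocalization.exists_mk'_eq p.primeCompl a
    rw [IsLocalization.AtPrime.isUnit_mk'_iff A p x s]
    intro hx
    have h0 : φ x = 0 := hφ.ge hx
    rw [isUnit_iff_ne_zero, IsLocalization.lift_mk', h0, zero_mul] at ha
    exact ha rfl⟩
  letI : Algebra (ResidueField A) Ω := (ResidueField.lift φA).toAlgebra
  haveI : Algebra.IsAlgebraic (ResidueField A) (ResidueField R) := hR.isSepClosure.separable.isAlgebraic
  let κ : ResidueField R →ₐ[ResidueField A] Ω := (exists_sepPoint _ _ _).some
  let ρ : R →+* Ω := κ.toRingHom.comp (residue R)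
  have hρA : ∀ a, ρ (algebraMap A R a) = φA a := fun a => by
    show κ (residue R (algebraMap A R a)) = _
    rw [show residue R (algebraMap A R a) = algebraMap (ResidueField A) (ResidueField R) (residue A a) from rfl,
      κ.commutes]
    rfl
  have hρ₀ : ∀ a, ρ (algebraMap A₀ R a) = φ a := fun a => by
    rw [IsScalarTower.algebraMap_apply A₀ A R, hρA, IsLocalization.lift_eq]
  letI : Algebra A₀ Ω := φ.toAlgebra
  letI : Algebra R Ω := ρ.toAlgebra
  haveI : IsScalarTower A₀ R Ω := IsScalarTower.of_algebraMap_eq fun a => (hρ₀ a).symm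
  -- a finite subalgebra separating the points
  have hsep : ∀ i j, ∃ b, i ≠ j → χ i b ≠ χ j b := fun i j => by
    by_cases h : i = j
    · exact ⟨0, fun h' => absurd h h'⟩
    · obtain ⟨b, hb⟩ := not_forall.1 fun h' => hχi.ne h (RingHom.ext h')
      exact ⟨b, fun _ => hb⟩
  choose sep hsep using hsep
  let s : Set (integralClosure A₀ L) := Set.range fun x : Fin (Module.finrank K L) × Fin (Module.finrank K L) =>
    sep x.1 x.2
  let C := Algebra.adjoin A₀ s
  haveI : Module.Finite A₀ C := ⟨(Submodule.fg_top _).mpr (fg_adjoin_of_finite (Set.finite_range _)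
    fun x _ => (isIntegral_algHom_iff (integralClosure A₀ L).val Subtype.val_injective).1 x.2)⟩
  let χ' : Fin (Module.finrank K L) → (C →ₐ[A₀] Ω) := fun i =>
    { toRingHom := (χ i).comp C.val.toRingHom
      commutes' := fun a => RingHom.congr_fun (hχ i) a }
  let τ : Fin (Module.finrank K L) → (R ⊗[A₀] C →ₐ[R] Ω) := fun i =>
    Algebra.TensorProduct.lift (Algebra.ofId R Ω) (χ' i) fun _ _ => Commute.all _ _
  let T := R ⊗[A₀] C
  let N : Fin (Module.finrank K L) → Ideal T := fun i => RingHom.ker (τ i)
  have hkerρ : RingHom.ker ρ = maximalIdeal R := by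
    refine le_antisymm (le_maximalIdeal (RingHom.ker_ne_top ρ)) fun x hx => ?_
    show κ (residue R x) = 0
    rw [residue_eq_zero_iff x |>.2 hx, map_zero]
  have hNc : ∀ i, (N i).comap (algebraMap R T) = maximalIdeal R := fun i => by
    rw [← hkerρ]; ext x; simp [N, RingHom.mem_ker, RingHom.algebraMap_toAlgebra]
  haveI hNp : ∀ i, (N i).IsPrime := fun i => RingHom.ker_isPrime _
  have hN : ∀ i, (N i).IsMaximal := fun i => by
    refine Ideal.isMaximal_of_isIntegral_of_isMaximal_comap (R := R) (N i) ?_
    rw [hNc]; infer_instance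
  have hinj : Function.Injective N := fun i j hij => by
    by_contra hne
    refine hsep i j hne ?_
    have key : τ i = τ j := by
      haveI := hN i
      letI : Field (T ⧸ N i) := Ideal.Quotient.field _
      let a : T ⧸ N i →+* Ω := Ideal.Quotient.lift (N i) (τ i).toRingHom fun x hx => hx
      let b : T ⧸ N i →+* Ω := Ideal.Quotient.lift (N i) (τ j).toRingHom fun x hx => by
        have : x ∈ N j := hij ▸ hx
        exact this
      let r : ResidueField R →+* T ⧸ N i := Ideal.Quotient.lift (maximalIdeal R)
        ((Ideal.Quotient.mk (N i)).comp (algebraMap R T)) fun x hx => by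
          rw [← hNc i] at hx
          exact Ideal.Quotient.eq_zero_iff_mem.2 hx
      letI : Algebra (ResidueField R) (T ⧸ N i) := r.toAlgebra
      haveI : IsScalarTower R (ResidueField R) (T ⧸ N i) := IsScalarTower.of_algebraMap_eq fun x => rfl
      haveI : Module.Finite R (T ⧸ N i) := Module.Finite.of_surjective (Ideal.Quotient.mkₐ R (N i)).toLinearMap
        Ideal.Quotient.mk_surjective
      haveI : Module.Finite (ResidueField R) (T ⧸ N i) := Module.Finite.of_restrictScalars_finite R _ _
      haveI : IsSepClosed (ResidueField R) := hR.isSepClosure.sep_closed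
      have hab : a = b := ringHom_eq_of_isSepClosed (k := ResidueField R) a b fun x => by
        obtain ⟨x, rfl⟩ := residue_surjective x
        exact ((τ i).commutes x).trans ((τ j).commutes x).symm
      exact AlgHom.ext fun x => RingHom.congr_fun hab (Ideal.Quotient.mk _ x)
    have := congrArg (fun h : T →ₐ[R] Ω => h (1 ⊗ₜ ⟨sep i j, Algebra.subset_adjoin ⟨(i, j), rfl⟩⟩)) key
    have h2 : ∀ i (x : C), τ i (1 ⊗ₜ x) = χ i x.1 := fun i x =>
      (Algebra.TensorProduct.lift_tmul _ _ _ _ _).trans (by rw [map_one, one_mul]; rfl)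
    exact (h2 i _).symm.trans (this.trans (h2 j _))
  obtain ⟨f, hf, hfN, horth⟩ := exists_orthogonal_idempotents R T N hN hinj
  haveI : Module.Flat A₀ R := Module.Flat.trans A₀ A R
  obtain ⟨σ, hσ⟩ := exists_homs_of_idempotents (A₀ := A₀) (R := R) (Localization.AtPrime p) K K' L ((integralClosure A₀ L).val.comp C.val)
    (Subtype.val_injective.comp Subtype.val_injective) f hf
    (fun i h => hfN i (by rw [h]; exact zero_mem _)) horth rfl
  exact SHSplit.finite_etale_integralClosure R K K' L σ hσ

end GenNormLib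

end
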