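import Groth.Agent.GenNormLib.Basic
import Groth.Agent.SimpConnLib.Bound
import Groth.Prelude.Def_Pi1

/-! # Covers of the generic point that extend -/

set_option autoImplicit false
set_option linter.style.haveILetI false
set_option backward.isDefEq.respectTransparency false
set_option backward.isDefEq.respectTransparency.types false
set_option maxHeartbeats 1000000

universe u

open CategoryTheory CategoryTheory.Limits AlgebraicGeometry

noncomputable section

namespace GenNormLib

theorem finite_stalkMap_comp {T S X : Scheme.{u}} (g : T ⟶ S) [IsFinite g] (j : S ⟶ X) [IsPreimmersion j] (t : T)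
    (hS : IsField (S.presheaf.stalk (g t))) : ((g ≫ j).stalkMap t).hom.Finite := by
  letI := hS.toField
  letI := (g.stalkMap t).hom.toAlgebra
  haveI : Algebra.QuasiFinite (S.presheaf.stalk (g t)) (T.presheaf.stalk t) := g.quasiFiniteAt t
  rw [Scheme.Hom.stalkMap_comp, CommRingCat.hom_comp]
  exact RingHom.Finite.comp
    (show (g.stalkMap t).hom.Finite from Module.Finite.of_quasiFinite (R := S.presheaf.stalk (g t)) (S := T.presheaf.stalk t))
    (RingHom.Finite.of_surjective _ (j.stalkMap_surjective (g t)))

theorem essImage_iff {X : Scheme.{u}} [IsIntegral X] (hX : Pi1.IsNormalScheme X) (L : Type u) [Field L]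
    [Algebra X.functionField L] [FiniteDimensional X.functionField L]
    [QuasiCompact (Spec.map (CommRingCat.ofHom (algebraMap X.functionField L)) ≫ X.fromSpecStalk (genericPoint X))]
    [QuasiSeparated (Spec.map (CommRingCat.ofHom (algebraMap X.functionField L)) ≫ X.fromSpecStalk (genericPoint X))]
    (Y₀ : FEt.Cat (Spec X.functionField)) (e : Y₀.left ≅ Spec (CommRingCat.of L))
    (he : e.hom ≫ Spec.map (CommRingCat.ofHom (algebraMap X.functionField L)) = Y₀.hom) :
    (FEt.restrict (X.fromSpecStalk (genericPoint X))).essImage Y₀ ↔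
      (Etale (Spec.map (CommRingCat.ofHom (algebraMap X.functionField L)) ≫ X.fromSpecStalk (genericPoint X)).fromNormalization ∧
        IsFinite (Spec.map (CommRingCat.ofHom (algebraMap X.functionField L)) ≫ X.fromSpecStalk (genericPoint X)).fromNormalization) := by
  let g : Spec (CommRingCat.of L) ⟶ Spec X.functionField := Spec.map (CommRingCat.ofHom (algebraMap X.functionField L))
  let ι := X.fromSpecStalk (genericPoint X)
  let f := g ≫ ι
  haveI : IsFinite g := (IsFinite.SpecMap_iff _).2
    (RingHom.finite_algebraMap.2 (inferInstance : Module.Finite X.functionField L))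
  haveI : Subsingleton (Spec (CommRingCat.of L)) := inferInstanceAs (Subsingleton (PrimeSpectrum L))
  haveI : Subsingleton (Spec X.functionField) := inferInstanceAs (Subsingleton (PrimeSpectrum X.functionField))
  have hη : f (genericPoint (Spec (CommRingCat.of L))) = genericPoint X := by
    rw [Scheme.Hom.comp_apply, Subsingleton.elim (g _) (IsLocalRing.closedPoint X.functionField)]
    exact Scheme.fromSpecStalk_closedPoint
  have hfin : (f.stalkMap (genericPoint (Spec (CommRingCat.of L)))).hom.Finite :=
    finite_stalkMap_comp g ι _ (by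
      rw [Subsingleton.elim (g _) (genericPoint _)]
      exact Field.toIsField (Spec X.functionField).functionField)
  constructor
  · rintro ⟨Y', ⟨α⟩⟩
    let y : Y'.left ⟶ X := Y'.hom
    haveI : IsFinite y := Y'.prop.1
    haveI : Etale y := Y'.prop.2
    let a : Y₀.left ⟶ pullback y ι := α.inv.left
    haveI : IsIso a := ⟨⟨α.hom.left, congrArg (fun t => t.left) α.inv_hom_id, congrArg (fun t => t.left) α.hom_inv_id⟩⟩
    let s : Spec (CommRingCat.of L) ⟶ Y'.left := (e.inv ≫ a) ≫ pullback.fst y ι
    have ha : a ≫ pullback.snd y ι = Y₀.hom := MorphismProperty.Over.w α.inv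
    have hsy : s ≫ y = f := by
      simp only [s, Category.assoc, pullback.condition, reassoc_of% ha, ← he]
      exact e.inv_hom_id_assoc _
    haveI : ConnectedSpace Y'.left := by
      rw [connectedSpace_iff_clopen]
      refine ⟨⟨s (genericPoint _)⟩, fun C hC => ?_⟩
      obtain ⟨D, -, huniq⟩ := ClopenFFLib.clopenBij_generic hX Y' ⟨_, hC.preimage (pullback.fst y ι).continuous⟩
      haveI : Subsingleton (pullback y ι : Scheme.{u}) :=
        (e.inv ≫ a).surjective.subsingleton
      rcases ((pullback.fst y ι) ⁻¹' C).eq_empty_or_nonempty with h | h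
      · refine Or.inl (congrArg SetLike.coe ((huniq ⟨C, hC⟩ rfl).trans (huniq ⟨∅, isClopen_empty⟩ ?_).symm))
        exact h.symm
      · refine Or.inr (congrArg SetLike.coe ((huniq ⟨C, hC⟩ rfl).trans (huniq ⟨Set.univ, isClopen_univ⟩ ?_).symm))
        exact (Subsingleton.eq_univ_of_nonempty h).symm
    haveI : IsIntegral Y'.left := ClopenFFLib.isIntegral_of_connected y hX
    haveI : IsPreimmersion (pullback.fst y ι) :=
      MorphismProperty.pullback_fst (P := @IsPreimmersion) _ _ (show IsPreimmersion ι from inferInstance)
    obtain ⟨u, hu⟩ := exists_iso_normalization f hη hfin (ClopenFFLib.normal_of_etale y hX) y s hsy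
      (SimpConnLib.eq_genericPoint_of_map y _ ((Scheme.Hom.comp_apply s y _).symm.trans (hsy ▸ hη)))
      (s.stalkMap_surjective _)
    show Etale f.fromNormalization ∧ IsFinite f.fromNormalization
    rw [← hu]
    exact ⟨inferInstance, inferInstance⟩
  · rintro ⟨hE, hF⟩
    haveI : Etale f.fromNormalization := hE
    haveI : IsFinite f.fromNormalization := hF
    obtain ⟨q, hq⟩ := exists_iso_generic_fibre f hη hfin hX g rfl
    refine ⟨MorphismProperty.Over.mk ⊤ f.fromNormalization ⟨hF, hE⟩,
      ⟨MorphismProperty.Over.isoMk (q.symm ≪≫ e.symm) ?_⟩⟩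
    show (q.inv ≫ e.inv) ≫ Y₀.hom = pullback.snd f.fromNormalization ι
    rw [← he, Category.assoc, e.inv_hom_id_assoc, Iso.inv_comp_eq]
    exact hq.symm

end GenNormLib

end
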