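import Groth.Agent.GenNormLib.Spread
import Groth.Agent.SweepSix.NormSect
import Groth.Prelude.Def_Pi1

/-! # Normalisation in a field extension near a point with many geometric points -/

set_option autoImplicit false
set_option linter.style.haveILetI false
set_option backward.isDefEq.respectTransparency false
set_option backward.isDefEq.respectTransparency.types false
set_option maxHeartbeats 1000000
set_option synthInstance.maxHeartbeats 400000

universe u

open CategoryTheory CategoryTheory.Limits AlgebraicGeometry TopologicalSpace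

noncomputable section

namespace GenNormLib

variable {X : Scheme.{u}} [IsIntegral X] (L : Type u) [Field L] [Algebra X.functionField L]

/-- The composite `Spec L ⟶ Spec K ⟶ X`. -/
abbrev genPt : Spec (CommRingCat.of L) ⟶ X :=
  Spec.map (CommRingCat.ofHom (algebraMap X.functionField L)) ≫ X.fromSpecStalk (genericPoint X)

theorem exists_sections_iso (U : X.Opens) [Nonempty U] :
    ∃ ψ : Γ(Spec (CommRingCat.of L), genPt L ⁻¹ᵁ U) ≅ CommRingCat.of L,
      (genPt L).app U ≫ ψ.hom = X.germToFunctionField U ≫ CommRingCat.ofHom (algebraMap X.functionField L) := by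
  have hη : genericPoint X ∈ U := ((genericPoint_spec X).mem_open_set_iff U.2).2
    (by simpa using (inferInstance : Nonempty U).elim fun x => ⟨x.1, x.2⟩)
  have htop : genPt L ⁻¹ᵁ U = ⊤ := top_le_iff.1 fun t _ => by
    show X.fromSpecStalk (genericPoint X) ((Spec.map (CommRingCat.ofHom (algebraMap X.functionField L))) t) ∈ U
    haveI : Subsingleton (Spec X.functionField) := inferInstanceAs (Subsingleton (PrimeSpectrum X.functionField))
    rw [Subsingleton.elim ((Spec.map (CommRingCat.ofHom (algebraMap X.functionField L))) t)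
      (IsLocalRing.closedPoint X.functionField)]
    erw [Scheme.fromSpecStalk_closedPoint]
    exact hη
  refine ⟨(Spec (CommRingCat.of L)).presheaf.mapIso (eqToIso htop.symm).op ≪≫ Scheme.ΓSpecIso _, ?_⟩
  have h1 := Scheme.ΓSpecIso_inv_naturality (CommRingCat.ofHom (algebraMap X.functionField L))
  rw [Scheme.Hom.comp_app, Scheme.fromSpecStalk_app hη]
  simp only [Category.assoc, Iso.trans_hom, Functor.mapIso_hom, Scheme.Hom.naturality_assoc]
  have hid : ∀ h : Opposite.op (⊤ : (Spec (CommRingCat.of L)).Opens) ⟶ Opposite.op ⊤,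
      (Spec (CommRingCat.of L)).presheaf.map h = 𝟙 _ := fun h => by
    rw [show h = 𝟙 _ from Subsingleton.elim _ _, CategoryTheory.Functor.map_id]
  have hid2 : ∀ (V : (Spec (CommRingCat.of L)).Opens) (a : Opposite.op ⊤ ⟶ Opposite.op V)
      (b : Opposite.op V ⟶ Opposite.op ⊤) (k : Γ(Spec (CommRingCat.of L), ⊤) ⟶ CommRingCat.of L),
      (Spec (CommRingCat.of L)).presheaf.map a ≫ (Spec (CommRingCat.of L)).presheaf.map b ≫ k = k :=
    fun V a b k => by
      rw [← CategoryTheory.Functor.map_comp_assoc, hid]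
      exact Category.id_comp k
  erw [hid2]
  refine congrArg (X.presheaf.germ U (genericPoint X) hη ≫ ·) ?_
  refine ((Category.assoc _ _ _).symm.trans (congrArg (· ≫ (Scheme.ΓSpecIso (CommRingCat.of L)).hom) h1.symm)).trans ?_
  exact (Category.assoc _ _ _).trans ((congrArg (CommRingCat.ofHom (algebraMap X.functionField L) ≫ ·)
    (Scheme.ΓSpecIso (CommRingCat.of L)).inv_hom_id).trans (Category.comp_id _))

variable [QuasiCompact (genPt (X := X) L)] [QuasiSeparated (genPt (X := X) L)]

theorem exists_objIso {U : X.Opens} (hU : IsAffineOpen U) [Nonempty U] [Algebra Γ(X, U) L]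
    (halg : algebraMap Γ(X, U) L = (algebraMap X.functionField L).comp (X.germToFunctionField U).hom) :
    ∃ e : Γ((genPt L).normalization, (genPt L).fromNormalization ⁻¹ᵁ U) ≅
        CommRingCat.of (integralClosure Γ(X, U) L),
      (genPt L).fromNormalization.app U ≫ e.hom =
        CommRingCat.ofHom (algebraMap Γ(X, U) (integralClosure Γ(X, U) L)) := by
  obtain ⟨ψ, hψ⟩ := exists_sections_iso L U
  letI := ((genPt L).app U).hom.toAlgebra
  let ψa : Γ(Spec (CommRingCat.of L), genPt L ⁻¹ᵁ U) ≃ₐ[Γ(X, U)] L :=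
    AlgEquiv.ofRingEquiv (f := ψ.commRingCatIsoToRingEquiv) fun r => by
      rw [halg]
      exact congrArg (fun k => k.hom r) hψ
  refine ⟨(genPt L).normalizationObjIso hU ≪≫ ψa.mapIntegralClosure.toRingEquiv.toCommRingCatIso, ?_⟩
  rw [(genPt L).fromNormalization_app hU, Iso.trans_hom, Category.assoc, Iso.inv_hom_id_assoc]
  exact CommRingCat.hom_ext (RingHom.ext fun r => ψa.mapIntegralClosure.commutes r)

theorem finite_etale_morphismRestrict {U : X.Opens} (hU : IsAffineOpen U) [Nonempty U] [Algebra Γ(X, U) L]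
    (halg : algebraMap Γ(X, U) L = (algebraMap X.functionField L).comp (X.germToFunctionField U).hom)
    [Module.Finite Γ(X, U) (integralClosure Γ(X, U) L)] [Algebra.Etale Γ(X, U) (integralClosure Γ(X, U) L)] :
    IsFinite ((genPt L).fromNormalization ∣_ U) ∧ Etale ((genPt L).fromNormalization ∣_ U) := by
  obtain ⟨e, he⟩ := exists_objIso L hU halg
  let ν := (genPt (X := X) L).fromNormalization
  haveI : IsAffine U := hU
  haveI : IsAffine (ν ⁻¹ᵁ U) := hU.preimage ν
  have h0 : Arrow.mk (ν ∣_ U).appTop ≅ Arrow.mk (CommRingCat.ofHom (algebraMap Γ(X, U) (integralClosure Γ(X, U) L))) :=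
    eqToIso (by rw [← Scheme.Hom.resLE_eq_morphismRestrict]) ≪≫
      arrowResLEAppIso ν U (ν ⁻¹ᵁ U) le_rfl ≪≫
      Arrow.isoMk (Iso.refl _) e (by
        simp only [Arrow.mk_hom, Iso.refl_hom, Category.id_comp]
        rw [← Scheme.Hom.app_eq_appLE]
        exact he.symm)
  constructor
  · rw [HasAffineProperty.iff_of_isAffine (P := @IsFinite)]
    exact ⟨inferInstance, (RingHom.finite_respectsIso.arrow_mk_iso_iff h0).2
      (RingHom.finite_algebraMap.2 inferInstance)⟩
  · rw [HasRingHomProperty.iff_of_isAffine (P := @Etale)]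
    exact (RingHom.Etale.respectsIso.arrow_mk_iso_iff h0).2 (RingHom.etale_algebraMap.2 inferInstance)

variable {Ω : Type u} [Field Ω]

/-- The ring map of a point lying over an affine open. -/
def ptMap {Y : Scheme.{u}} (η : Spec (CommRingCat.of Ω) ⟶ Y) (V : Y.Opens) (h : ⊤ ≤ η ⁻¹ᵁ V) :
    Γ(Y, V) ⟶ CommRingCat.of Ω := η.appLE V ⊤ h ≫ (Scheme.ΓSpecIso _).hom

theorem ptMap_spec {Y : Scheme.{u}} (η : Spec (CommRingCat.of Ω) ⟶ Y) {V : Y.Opens} (hV : IsAffineOpen V)
    (h : ⊤ ≤ η ⁻¹ᵁ V) : Spec.map (ptMap η V h) ≫ hV.fromSpec = η := by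
  rw [ptMap, Spec.map_comp, Category.assoc, IsAffineOpen.SpecMap_appLE_fromSpec η hV (isAffineOpen_top _) h,
    IsAffineOpen.fromSpec_top, Scheme.isoSpec_Spec_inv, ← Spec.map_comp_assoc, Iso.inv_hom_id, Spec.map_id,
    Category.id_comp]

theorem exists_homs_of_points {U : X.Opens} (hU : IsAffineOpen U) [Nonempty U] [Algebra Γ(X, U) L]
    (halg : algebraMap Γ(X, U) L = (algebraMap X.functionField L).comp (X.germToFunctionField U).hom)
    (ξ : Spec (CommRingCat.of Ω) ⟶ X) (hξ : ⊤ ≤ ξ ⁻¹ᵁ U) {ι : Type}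
    (pts : ι ↪ {η : Spec (CommRingCat.of Ω) ⟶ (genPt L).normalization // η ≫ (genPt L).fromNormalization = ξ}) :
    ∃ χ : ι → (integralClosure Γ(X, U) L →+* Ω),
      (∀ i, (χ i).comp (algebraMap Γ(X, U) (integralClosure Γ(X, U) L)) = (ptMap ξ U hξ).hom) ∧
        Function.Injective χ := by
  obtain ⟨e, he⟩ := exists_objIso L hU halg
  let ν := (genPt (X := X) L).fromNormalization
  have hp : ∀ i, ⊤ ≤ (pts i).1 ⁻¹ᵁ (ν ⁻¹ᵁ U) := fun i => by
    rw [← Scheme.Hom.comp_preimage, (pts i).2]; exact hξ
  refine ⟨fun i => (e.inv ≫ ptMap (pts i).1 (ν ⁻¹ᵁ U) (hp i)).hom, fun i => ?_, fun i j hij => ?_⟩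
  · show (CommRingCat.ofHom (algebraMap Γ(X, U) (integralClosure Γ(X, U) L)) ≫ e.inv ≫
      ptMap (pts i).1 (ν ⁻¹ᵁ U) (hp i)).hom = _
    rw [← he, Category.assoc, Iso.hom_inv_id_assoc]
    congr 1
    simp only [ptMap, ← Category.assoc]
    congr 1
    rw [Scheme.Hom.app_eq_appLE, Scheme.Hom.appLE_comp_appLE]
    congr 1
    exact (pts i).2
  · refine pts.injective (Subtype.ext ?_)
    rw [← ptMap_spec (pts i).1 (hU.preimage ν) (hp i), ← ptMap_spec (pts j).1 (hU.preimage ν) (hp j)]
    congr 2
    rw [← Iso.cancel_iso_inv_left e]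
    exact CommRingCat.hom_ext hij

theorem exists_nbhd (hX : Pi1.IsNormalScheme X) [FiniteDimensional X.functionField L] [IsAlgClosed Ω]
    (ξ : Spec (CommRingCat.of Ω) ⟶ X)
    (pts : Fin (Module.finrank X.functionField L) ↪
      {η : Spec (CommRingCat.of Ω) ⟶ (genPt L).normalization // η ≫ (genPt L).fromNormalization = ξ}) :
    ∃ U : X.Opens, Set.range ξ.base ⊆ (U : Set X) ∧
      IsFinite ((genPt L).fromNormalization ∣_ U) ∧ Etale ((genPt L).fromNormalization ∣_ U) := by
  haveI : Subsingleton (Spec (CommRingCat.of Ω)) := inferInstanceAs (Subsingleton (PrimeSpectrum Ω))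
  let t : Spec (CommRingCat.of Ω) := IsLocalRing.closedPoint Ω
  obtain ⟨U, hU, hxU, -⟩ := exists_isAffineOpen_mem_and_subset (x := ξ t) (U := ⊤) trivial
  haveI : Nonempty U := ⟨⟨_, hxU⟩⟩
  have hξU : ⊤ ≤ ξ ⁻¹ᵁ U := fun s _ => Subsingleton.elim t s ▸ hxU
  haveI : IsIntegrallyClosed Γ(X, U) := SweepSix.NormSect.isIntegrallyClosed_of_stalk hU hX
  haveI : IsFractionRing Γ(X, U) X.functionField := functionField_isFractionRing_of_isAffineOpen X U hU
  letI : Algebra Γ(X, U) L := ((algebraMap X.functionField L).comp (X.germToFunctionField U).hom).toAlgebra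
  haveI : IsScalarTower Γ(X, U) X.functionField L := IsScalarTower.of_algebraMap_eq' rfl
  obtain ⟨χ, hχ, hχi⟩ := exists_homs_of_points L hU rfl ξ hξU pts
  let φ : Γ(X, U) →+* Ω := (ptMap ξ U hξU).hom
  let p : Ideal Γ(X, U) := RingHom.ker φ
  haveI : p.IsPrime := RingHom.ker_isPrime φ
  letI : Algebra (Localization.AtPrime p) X.functionField :=
    (IsLocalization.lift (S := Localization.AtPrime p) (M := p.primeCompl) (g := (algebraMap Γ(X, U) X.functionField))
      fun y => isUnit_iff_ne_zero.2 ((map_ne_zero_iff _ (IsFractionRing.injective Γ(X, U) X.functionField)).2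
        fun h => y.2 (h ▸ p.zero_mem))).toAlgebra
  haveI : IsScalarTower Γ(X, U) (Localization.AtPrime p) X.functionField :=
    IsScalarTower.of_algebraMap_eq fun r => (IsLocalization.lift_eq _ r).symm
  letI : Algebra (Localization.AtPrime p) L :=
    ((algebraMap X.functionField L).comp (algebraMap (Localization.AtPrime p) X.functionField)).toAlgebra
  haveI : IsScalarTower (Localization.AtPrime p) X.functionField L := IsScalarTower.of_algebraMap_eq' rfl
  haveI : IsDomain (Localization.AtPrime p) :=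
    IsLocalization.isDomain_localization p.primeCompl_le_nonZeroDivisors
  haveI : IsFractionRing (Localization.AtPrime p) X.functionField :=
    IsFractionRing.isFractionRing_of_isDomain_of_isLocalization p.primeCompl _ X.functionField
  obtain ⟨h1, h2⟩ := finite_etale_of_points p X.functionField L φ rfl χ hχ hχi
  obtain ⟨d, hdp, hd⟩ := exists_spread p (Localization.AtPrime p) X.functionField L
  have hxd : ξ t ∈ X.basicOpen d := by
    rw [← ptMap_spec ξ hU hξU, Scheme.Hom.comp_apply]
    show Spec.map (ptMap ξ U hξU) t ∈ hU.fromSpec ⁻¹ᵁ X.basicOpen d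
    rw [hU.fromSpec_preimage_basicOpen]
    intro hmem
    refine hdp ?_
    have : φ d ∈ (t : PrimeSpectrum Ω).asIdeal := hmem
    rwa [show (t : PrimeSpectrum Ω).asIdeal = ⊥ from IsLocalRing.maximalIdeal_eq_bot, Ideal.mem_bot] at this
  haveI : Nonempty (X.basicOpen d) := ⟨⟨_, hxd⟩⟩
  have hV : IsAffineOpen (X.basicOpen d) := hU.basicOpen d
  haveI : IsIntegrallyClosed Γ(X, X.basicOpen d) := SweepSix.NormSect.isIntegrallyClosed_of_stalk hV hX
  haveI : IsFractionRing Γ(X, X.basicOpen d) X.functionField :=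
    functionField_isFractionRing_of_isAffineOpen X _ hV
  haveI := hU.isLocalization_basicOpen d
  haveI : IsScalarTower Γ(X, U) Γ(X, X.basicOpen d) X.functionField := IsScalarTower.of_algebraMap_eq fun r =>
    (TopCat.Presheaf.germ_res_apply X.presheaf _ _ _ r).symm
  letI : Algebra Γ(X, X.basicOpen d) L :=
    ((algebraMap X.functionField L).comp (X.germToFunctionField (X.basicOpen d)).hom).toAlgebra
  haveI : IsScalarTower Γ(X, X.basicOpen d) X.functionField L := IsScalarTower.of_algebraMap_eq' rfl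
  obtain ⟨h3, h4⟩ := hd Γ(X, X.basicOpen d)
  refine ⟨X.basicOpen d, ?_, finite_etale_morphismRestrict L hV rfl⟩
  rintro _ ⟨s, rfl⟩
  rw [Subsingleton.elim s t]
  exact hxd

end GenNormLib

end
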