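import Groth.Agent.GenNormLib.Count
import Groth.Agent.S2195
import Mathlib.RingTheory.Discriminant
import Mathlib.RingTheory.Localization.NormTrace

/-! # Spreading a finite étale integral closure from a local ring to a neighbourhood -/

set_option autoImplicit false
set_option linter.style.haveILetI false
set_option backward.isDefEq.respectTransparency false
set_option backward.isDefEq.respectTransparency.types false
set_option maxHeartbeats 1000000
set_option synthInstance.maxHeartbeats 400000

universe u

open Matrix
open scoped nonZeroDivisors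

noncomputable section

namespace GenNormLib

/-- A finite étale integral closure over the local ring has an integral basis with discriminant invertible at `p`. -/
theorem exists_basis_unit_discr {A₀ : Type u} [CommRing A₀] [IsDomain A₀] [IsIntegrallyClosed A₀] (p : Ideal A₀)
    [p.IsPrime] (A : Type u) [CommRing A] [IsDomain A] [Algebra A₀ A] [IsLocalization.AtPrime A p]
    (K : Type u) [Field K] [Algebra A₀ K] [IsFractionRing A₀ K] [Algebra A K] [IsScalarTower A₀ A K]
    [IsFractionRing A K] (L : Type u) [Field L] [Algebra K L] [FiniteDimensional K L] [Algebra A₀ L]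
    [IsScalarTower A₀ K L] [Algebra A L] [IsScalarTower A K L] [Module.Finite A (integralClosure A L)]
    [Algebra.Etale A (integralClosure A L)] :
    ∃ (n : ℕ) (b : Module.Basis (Fin n) K L) (d : A₀), d ∉ p ∧ (∀ i, IsIntegral A₀ (b i)) ∧
      algebraMap A₀ K d = Algebra.discr K b := by
  classical
  haveI : IsLocalRing A := IsLocalization.AtPrime.isLocalRing A p
  haveI : IsScalarTower A₀ A L := IsScalarTower.of_algebraMap_eq fun a => by
    rw [IsScalarTower.algebraMap_apply A₀ K L, IsScalarTower.algebraMap_apply A₀ A K,
      ← IsScalarTower.algebraMap_apply A K L]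
  let C := integralClosure A L
  haveI : Module.Free A C := Module.free_of_flat_of_isLocalRing
  let β := Module.finBasis A C
  choose m hm using fun i => IsIntegral.exists_multiple_integral_of_isLocalization (R := A₀) p.primeCompl
    ((β i : C) : L) (β i).2
  let w : Fin (Module.finrank A C) → Aˣ := fun i => (IsLocalization.map_units A (m i)).unit
  let β' := β.unitsSMul w
  have hβ' : ∀ i, IsIntegral A₀ ((β' i : C) : L) := fun i => by
    have h : ((β' i : C) : L) = (m i : A₀) • ((β i : C) : L) := by
      simp [β', w, Module.Basis.unitsSMul_apply, Units.smul_def, algebraMap_smul]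
    rw [h]
    exact hm i
  haveI : IsLocalization (Algebra.algebraMapSubmonoid C A⁰) L := IsIntegralClosure.isLocalization A K L C
  let b := β'.localizationLocalization K A⁰ L
  have hb : ∀ i, b i = ((β' i : C) : L) := fun i => β'.localizationLocalization_apply K A⁰ L i
  have hbi : ∀ i, IsIntegral A₀ (b i) := fun i => by rw [hb i]; exact hβ' i
  obtain ⟨d, hd⟩ := IsIntegrallyClosed.isIntegral_iff.1 (Algebra.discr_isIntegral K hbi)
  refine ⟨_, b, d, fun hdp => ?_, hbi, hd⟩
  have h1 : algebraMap A K (Algebra.discr A β') = algebraMap A K (algebraMap A₀ A d) := by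
    rw [← IsScalarTower.algebraMap_apply, hd]
    exact (Algebra.discr_localizationLocalization A A⁰ L β').symm
  have h2 : IsUnit (algebraMap A₀ A d) := by
    rw [← IsFractionRing.injective A K h1]
    exact (Groth.Agent.S2195.result β').1 inferInstance
  exact (IsLocalization.AtPrime.isUnit_to_map_iff A p d).1 h2 hdp

/-- An integral basis with unit discriminant makes the integral closure finite étale. -/
theorem finite_etale_of_basis_discr {A : Type u} [CommRing A] [IsDomain A] [IsIntegrallyClosed A]
    {K : Type u} [Field K] [Algebra A K] [IsFractionRing A K] {L : Type u} [Field L] [Algebra K L]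
    [FiniteDimensional K L] [Algebra A L] [IsScalarTower A K L] {n : ℕ} (b : Module.Basis (Fin n) K L)
    (hb : ∀ i, IsIntegral A (b i)) (u : Aˣ) (hu : algebraMap A K u = Algebra.discr K b) :
    Module.Finite A (integralClosure A L) ∧ Algebra.Etale A (integralClosure A L) := by
  classical
  let C := integralClosure A L
  have hinj : Function.Injective (algebraMap A K) := IsFractionRing.injective A K
  choose T hT using fun i j => IsIntegrallyClosed.isIntegral_iff.1
    (Algebra.isIntegral_trace (L := K) ((hb i).mul (hb j)))
  have hTm : (Matrix.of T).map (algebraMap A K) = Algebra.traceMatrix K b := by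
    ext i j
    simp [Algebra.traceMatrix_apply, Algebra.traceForm_apply, hT]
  have hdet : (Matrix.of T).det = u := hinj (by
    rw [RingHom.map_det, RingHom.mapMatrix_apply, hTm, hu, Algebra.discr_def])
  have hrepr : ∀ x : L, IsIntegral A x → ∃ a : Fin n → A, ∀ i, algebraMap A K (a i) = b.repr x i := fun x hx => by
    choose v hv using fun j => IsIntegrallyClosed.isIntegral_iff.1
      (Algebra.isIntegral_trace (L := K) (hx.mul (hb j)))
    refine ⟨(Matrix.of T)⁻¹ *ᵥ v, fun i => ?_⟩
    have e1 : ((Matrix.of T).map (algebraMap A K)) *ᵥ (fun i => b.repr x i) = fun j => algebraMap A K (v j) := by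
      rw [hTm]
      exact (Algebra.traceMatrix_of_basis_mulVec b x).trans (funext fun j => (hv j).symm)
    have e2 : ((Matrix.of T)⁻¹.map (algebraMap A K)) * ((Matrix.of T).map (algebraMap A K)) = 1 := by
      rw [← Matrix.map_mul, Matrix.nonsing_inv_mul _ (hdet ▸ u.isUnit), Matrix.map_one _ (map_zero _) (map_one _)]
    have e3 := congrArg (fun z => ((Matrix.of T)⁻¹.map (algebraMap A K)) *ᵥ z) e1
    simp only [Matrix.mulVec_mulVec, e2, Matrix.one_mulVec] at e3
    rw [congrFun e3 i, RingHom.map_mulVec]
    rfl
  let c : Fin n → C := fun i => ⟨b i, hb i⟩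
  have hli : LinearIndependent A c := by
    refine LinearIndependent.of_comp C.val.toLinearMap ?_
    show LinearIndependent A (b : Fin n → L)
    exact b.linearIndependent.restrict_scalars (by
      intro x y h
      simpa [Algebra.smul_def] using hinj (by simpa [Algebra.smul_def] using h))
  have hsp : ⊤ ≤ Submodule.span A (Set.range c) := fun x _ => by
    obtain ⟨a, ha⟩ := hrepr x.1 x.2
    refine (Submodule.mem_span_range_iff_exists_fun A).2 ⟨a, Subtype.val_injective ?_⟩
    refine ((map_sum C.val _ _).trans ?_).trans (b.sum_repr x.1)
    refine Finset.sum_congr rfl fun i _ => ?_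
    rw [← ha i, algebraMap_smul]
    rfl
  let β := Module.Basis.mk hli hsp
  haveI : IsLocalization (Algebra.algebraMapSubmonoid C A⁰) L := IsIntegralClosure.isLocalization A K L C
  have hd : Algebra.discr A β = u := hinj (by
    rw [hu, ← Algebra.discr_localizationLocalization A A⁰ L β]
    congr 1
    funext i
    rw [Module.Basis.localizationLocalization_apply, Module.Basis.mk_apply]
    rfl)
  exact ⟨Module.Finite.of_basis β, (Groth.Agent.S2195.result β).2 (hd ▸ u.isUnit)⟩

/-- A finite étale integral closure over a local ring spreads to a basic open neighbourhood. -/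
theorem exists_spread {A₀ : Type u} [CommRing A₀] [IsDomain A₀] [IsIntegrallyClosed A₀] (p : Ideal A₀) [p.IsPrime]
    (A : Type u) [CommRing A] [IsDomain A] [Algebra A₀ A] [IsLocalization.AtPrime A p]
    (K : Type u) [Field K] [Algebra A₀ K] [IsFractionRing A₀ K] [Algebra A K] [IsScalarTower A₀ A K]
    [IsFractionRing A K] (L : Type u) [Field L] [Algebra K L] [FiniteDimensional K L] [Algebra A₀ L]
    [IsScalarTower A₀ K L] [Algebra A L] [IsScalarTower A K L] [Module.Finite A (integralClosure A L)]
    [Algebra.Etale A (integralClosure A L)] :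
    ∃ d : A₀, d ∉ p ∧ ∀ (A' : Type u) [CommRing A'] [IsDomain A'] [IsIntegrallyClosed A'] [Algebra A₀ A']
      [IsLocalization.Away d A'] [Algebra A' K] [IsScalarTower A₀ A' K] [IsFractionRing A' K] [Algebra A' L]
      [IsScalarTower A' K L],
      Module.Finite A' (integralClosure A' L) ∧ Algebra.Etale A' (integralClosure A' L) := by
  obtain ⟨n, b, d, hdp, hb, hd⟩ := exists_basis_unit_discr p A K L
  refine ⟨d, hdp, ?_⟩
  intro A' _ _ _ _ _ _ _ _ _ _
  haveI : IsScalarTower A₀ A' L := IsScalarTower.of_algebraMap_eq fun a => by
    rw [IsScalarTower.algebraMap_apply A₀ K L, IsScalarTower.algebraMap_apply A₀ A' K,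
      ← IsScalarTower.algebraMap_apply A' K L]
  exact finite_etale_of_basis_discr b (fun i => (hb i).tower_top)
    (IsLocalization.Away.algebraMap_isUnit (S := A') d).unit (by
      rw [IsUnit.unit_spec, ← IsScalarTower.algebraMap_apply, hd])

end GenNormLib

end
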